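import Mathlib

/-!
# Universal injectivity of fibrewise injective maps: local lemmas

* `injective_rTensor_of_free_local`: over a local ring, a map from a free module to a flat module which is injective
  modulo the maximal ideal is universally injective.
* `injective_rTensor_of_pow`: injectivity after tensoring with modules killed by `J` gives it for `J ^ n`.
* `exists_torsion_killer`: in a Noetherian module the torsion for a multiplicative set is killed by one element.
-/

universe u

open TensorProduct

namespace Groth.FlatDescent.UnivInjFib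

theorem injective_rTensor_of_free_local {R P M Q : Type u} [CommRing R] [IsLocalRing R] [AddCommGroup P] [Module R P]
    [Module.Free R P] [AddCommGroup M] [Module R M] [Module.Flat R M] [AddCommGroup Q] [Module R Q] (u : P →ₗ[R] M)
    (h : Function.Injective (u.rTensor (R ⧸ IsLocalRing.maximalIdeal R))) : Function.Injective (u.rTensor Q) := by
  classical
  refine (injective_iff_map_eq_zero _).2 fun z hz => ?_
  let b := Module.Free.chooseBasis R P
  set q := TensorProduct.equivFinsuppOfBasisLeft b (N := Q) z with hq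
  let s := q.support
  have hz' : z = ∑ i ∈ s, b i ⊗ₜ q i := by
    apply (TensorProduct.equivFinsuppOfBasisLeft b (N := Q)).injective
    rw [map_sum, ← hq]
    simp only [TensorProduct.equivFinsuppOfBasisLeft_apply_tmul, Module.Basis.repr_self,
      Finsupp.mapRange_single, one_smul]
    exact (Finsupp.sum_single q).symm
  let f : (s → R) →ₗ[R] Q := Fintype.linearCombination R fun i => q i
  let w : P ⊗[R] (s → R) := ∑ i : s, b i ⊗ₜ Pi.single i 1
  have hw : f.lTensor P w = z := by
    rw [map_sum, hz', ← Finset.sum_coe_sort s]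
    exact Finset.sum_congr rfl fun i _ => by simp [f, Fintype.linearCombination_apply_single]
  have huw : f.lTensor M (u.rTensor (s → R) w) = 0 := by
    rw [← LinearMap.comp_apply, LinearMap.lTensor_comp_rTensor, ← LinearMap.rTensor_comp_lTensor, LinearMap.comp_apply,
      hw, hz]
  obtain ⟨y, hy⟩ := (Module.Flat.lTensor_exact (M := M) (LinearMap.exact_subtype_ker_map f) _).1 huw
  suffices hK : LinearMap.ker f = ⊤ by
    rw [← hw, show f = 0 from LinearMap.ker_eq_top.1 hK, LinearMap.lTensor_zero, LinearMap.zero_apply]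
  let m := IsLocalRing.maximalIdeal R
  refine top_le_iff.1 (Submodule.le_of_le_smul_of_le_jacobson_bot (I := m) Module.Finite.fg_top
    (IsLocalRing.jacobson_eq_maximalIdeal _ bot_ne_top).ge ?_)
  by_contra hne
  obtain h | ⟨N, hN, hle⟩ := IsCoatomic.eq_top_or_exists_le_coatom
    (LinearMap.ker f ⊔ m • (⊤ : Submodule R (s → R)))
  · exact hne (le_of_eq h.symm)
  obtain ⟨I, hI, ⟨e⟩⟩ := isSimpleModule_iff_quot_maximal.1 (isSimpleModule_iff_isCoatom.2 hN)
  obtain rfl : I = m := IsLocalRing.eq_maximalIdeal hI
  let χ : (s → R) →ₗ[R] R ⧸ m := e.toLinearMap.comp N.mkQ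
  have hχ : χ.comp (LinearMap.ker f).subtype = 0 := by
    ext x
    show e (N.mkQ x.1) = 0
    rw [Submodule.mkQ_apply, (Submodule.Quotient.mk_eq_zero N).2 (hle (Submodule.mem_sup_left x.2)), map_zero]
  have h0 : χ.lTensor P w = 0 := h (by
    rw [map_zero, ← LinearMap.comp_apply, LinearMap.rTensor_comp_lTensor, ← LinearMap.lTensor_comp_rTensor,
      LinearMap.comp_apply, ← hy, ← LinearMap.comp_apply, ← LinearMap.lTensor_comp, hχ, LinearMap.lTensor_zero,
      LinearMap.zero_apply])
  have hχ0 : ∀ i : s, χ (Pi.single i 1) = 0 := fun i => by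
    have h1 := DFunLike.congr_fun (congrArg (TensorProduct.equivFinsuppOfBasisLeft b (N := R ⧸ m)) h0) i.1
    simp only [w, map_sum, map_zero, LinearMap.lTensor_tmul, TensorProduct.equivFinsuppOfBasisLeft_apply_tmul,
      Module.Basis.repr_self, Finsupp.mapRange_single, one_smul, Finsupp.coe_finsetSum, Finset.sum_apply,
      Finsupp.coe_zero, Pi.zero_apply] at h1
    rw [Finset.sum_eq_single i (fun j _ hj => Finsupp.single_eq_of_ne (fun hh => hj (Subtype.ext hh.symm)))
      (fun hn => absurd (Finset.mem_univ i) hn), Finsupp.single_eq_same] at h1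
    exact h1
  have hχz : χ = 0 := (Pi.basisFun R s).ext fun i => by rw [Pi.basisFun_apply, hχ0, LinearMap.zero_apply]
  refine hN.1 (eq_top_iff.2 fun v _ => ?_)
  have hv : e (N.mkQ v) = 0 := LinearMap.congr_fun hχz v
  exact (Submodule.Quotient.mk_eq_zero N).1 (e.map_eq_zero_iff.1 hv)

/-- Dévissage: from modules killed by `J` to modules killed by `J ^ n`. -/
theorem injective_rTensor_of_pow {A Ap : Type u} [CommRing A] [CommRing Ap] [Algebra A Ap] {N M : Type u}
    [AddCommGroup N] [Module A N] [AddCommGroup M] [Module A M] [Module.Flat A M] (u : N →ₗ[A] M) (J : Ideal A)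
    (h : ∀ (Q : Type u) [AddCommGroup Q] [Module Ap Q] [Module A Q] [IsScalarTower A Ap Q],
      (∀ a ∈ J, ∀ q : Q, a • q = 0) → Function.Injective (u.rTensor Q))
    (n : ℕ) : ∀ (Q : Type u) [AddCommGroup Q] [Module Ap Q] [Module A Q] [IsScalarTower A Ap Q],
      (∀ a ∈ J ^ n, ∀ q : Q, a • q = 0) → Function.Injective (u.rTensor Q) := by
  induction n with
  | zero =>
    intro Q _ _ _ _ hQ
    haveI : Subsingleton Q := ⟨fun a b => by
      rw [← one_smul A a, ← one_smul A b, hQ 1 (by simp), hQ 1 (by simp)]⟩
    exact Function.injective_of_subsingleton _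
  | succ n ih =>
    intro Q _ _ _ _ hQ
    let S : Submodule Ap Q := (J.map (algebraMap A Ap)) • ⊤
    have hS : ∀ a ∈ J ^ n, ∀ q : S, a • q = 0 := by
      rintro a ha ⟨q, hq⟩
      refine Subtype.ext (show a • q = 0 from ?_)
      induction hq using Submodule.smul_induction_on' with
      | smul r hr x _ =>
        induction hr using Submodule.span_induction generalizing x with
        | mem r hr =>
          obtain ⟨c, hc, rfl⟩ := hr
          rw [algebraMap_smul, smul_smul]
          exact hQ _ (by rw [pow_succ]; exact Ideal.mul_mem_mul ha hc) x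
        | zero => rw [zero_smul, smul_zero]
        | add r r' _ _ hr hr' => rw [add_smul, smul_add, hr _ trivial, hr' _ trivial, add_zero]
        | smul c r _ hr => rw [smul_eq_mul, mul_comm, mul_smul]; exact hr _ trivial
      | add x _ y _ hx hy => rw [smul_add, hx, hy, add_zero]
    have hQS : ∀ a ∈ J, ∀ q : Q ⧸ S, a • q = 0 := by
      intro a ha q
      obtain ⟨q, rfl⟩ := Submodule.Quotient.mk_surjective _ q
      rw [← Submodule.Quotient.mk_smul, Submodule.Quotient.mk_eq_zero, ← algebraMap_smul Ap a q]
      exact Submodule.smul_mem_smul (Ideal.mem_map_of_mem _ ha) trivial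
    refine (injective_iff_map_eq_zero _).2 fun z hz => ?_
    let i : S →ₗ[A] Q := S.subtype.restrictScalars A
    let p : Q →ₗ[A] (Q ⧸ S) := S.mkQ.restrictScalars A
    have hi : Function.Injective i := S.subtype_injective
    have hp : Function.Surjective p := S.mkQ_surjective
    have hexact : Function.Exact i p := fun x => LinearMap.exact_subtype_mkQ S x
    have hex := lTensor_exact N hexact hp
    obtain ⟨y, rfl⟩ := (hex z).1 (h (Q ⧸ S) hQS (by
      rw [map_zero, ← LinearMap.comp_apply, LinearMap.rTensor_comp_lTensor, ← LinearMap.lTensor_comp_rTensor,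
        LinearMap.comp_apply, hz, map_zero]))
    rw [ih S hS (a₁ := y) (a₂ := 0) (by
      refine Module.Flat.lTensor_preserves_injective_linearMap (M := M) i hi ?_
      rw [map_zero, map_zero, ← LinearMap.comp_apply, LinearMap.lTensor_comp_rTensor,
        ← LinearMap.rTensor_comp_lTensor, LinearMap.comp_apply, hz]), map_zero]

/-- In a Noetherian module, one element of `T` kills all the `T`-torsion. -/
theorem exists_torsion_killer {B C V : Type u} [CommRing B] [CommRing C] [Algebra B C] [AddCommGroup V] [Module B V]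
    [Module C V] [IsScalarTower B C V] [IsNoetherian C V] (T : Submonoid B) :
    ∃ t ∈ T, ∀ v : V, (∃ s ∈ T, s • v = 0) → t • v = 0 := by
  classical
  let W : Submodule C V :=
    { carrier := {v | ∃ s ∈ T, s • v = 0}
      add_mem' := fun {a b} ⟨s, hs, ha⟩ ⟨s', hs', hb⟩ =>
        ⟨s * s', mul_mem hs hs', by rw [smul_add, mul_comm, mul_smul, ha, smul_zero, zero_add, mul_comm, mul_smul, hb,
          smul_zero]⟩
      zero_mem' := ⟨1, one_mem _, smul_zero _⟩
      smul_mem' := fun c v ⟨s, hs, hv⟩ => ⟨s, hs, by rw [smul_comm, hv, smul_zero]⟩ }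
  obtain ⟨G, hG⟩ := (IsNoetherian.noetherian W)
  have hg : ∀ g ∈ G, ∃ s ∈ T, s • g = 0 := fun g hg => show g ∈ W from hG ▸ Submodule.subset_span hg
  choose! s hs hsg using hg
  refine ⟨∏ g ∈ G, s g, prod_mem hs, fun v hv => ?_⟩
  have hvW : v ∈ Submodule.span C (G : Set V) := hG.symm ▸ hv
  clear hv
  induction hvW using Submodule.span_induction with
  | mem v hv =>
    obtain ⟨c, hc⟩ := Finset.dvd_prod_of_mem s hv
    rw [hc, mul_comm, mul_smul, hsg v hv, smul_zero]
  | zero => exact smul_zero _
  | add a b _ _ iha ihb => rw [smul_add, iha, ihb, add_zero]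
  | smul c a _ iha => rw [smul_comm, iha, smul_zero]

end Groth.FlatDescent.UnivInjFib
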