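import Mathlib
import Groth.Agent.FlatDescent.UnivInjFib.Local
import Groth.Agent.FlatDescent.FreeStrat.Basic
import Groth.Agent.FlatDescent.Presentation
import Groth.Agent.FlatDescent.EssFP
import Groth.Prelude.Def_FlatCA

/-!
# Fibrewise injective maps from flat modules, finitely presented over a localised algebra, into flat modules are
universally injective

The point is local at a prime `p` minimal over the annihilator of an element of the kernel: the element is killed by a
power of every finitely generated `J ≤ p`; after inverting one `t ∈ T` killing the torsion of the fibre at `p`, the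
stratification by free strata provides such a `J` with free restriction to `A_p / J`, where the classical local lemma
applies.
-/

universe u

open TensorProduct

namespace Groth.FlatDescent.UnivInjFib

/-- Flatness away from an element from flatness at all primes avoiding it. -/
theorem flatOn_powers_of_flatAt {A P M : Type u} [CommRing A] [CommRing P] [Algebra A P] [AddCommGroup M] [Module A M]
    [Module P M] [IsScalarTower A P M] (t : P) (h : ∀ (Q : Ideal P) [Q.IsPrime], t ∉ Q → FlatCA.FlatAt A Q M) :
    FlatOn A (P := P) (Submonoid.powers t) M := by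
  intro I x hx
  let J : Ideal P := LinearMap.ker (LinearMap.toSpanSingleton P (TensorProduct A M I) x)
  by_contra hne
  have hdis : Disjoint (J : Set P) (Submonoid.powers t : Set P) :=
    Set.disjoint_left.2 fun c hc hct => hne ⟨c, hct, hc⟩
  obtain ⟨Q, hQ, hJQ, hQd⟩ := Ideal.exists_le_prime_disjoint J _ hdis
  obtain ⟨c, hc, hcx⟩ := (flatOn_primeCompl_iff Q).mpr
    (h Q fun ht => Set.disjoint_left.1 hQd ht ⟨1, pow_one t⟩) I x hx
  exact hc (hJQ hcx)

theorem injective_rTensor_baseChange_iff {A R N M Q : Type u} [CommRing A] [CommRing R] [Algebra A R] [AddCommGroup N]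
    [Module A N] [AddCommGroup M] [Module A M] [AddCommGroup Q] [Module A Q] [Module R Q] [IsScalarTower A R Q]
    (u : N →ₗ[A] M) : Function.Injective ((u.baseChange R).rTensor Q) ↔ Function.Injective (u.rTensor Q) := by
  rw [← LinearMap.lTensor_inj_iff_rTensor_inj, ← LinearMap.lTensor_inj_iff_rTensor_inj]
  let eN := AlgebraTensorModule.cancelBaseChange A R R Q N
  let eM := AlgebraTensorModule.cancelBaseChange A R R Q M
  have hc : ∀ z, u.lTensor Q (eN z) = eM ((u.baseChange R).lTensor Q z) := by
    intro z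
    induction z with
    | zero => simp
    | add a b ha hb => simp only [map_add, ha, hb]
    | tmul q y =>
      induction y with
      | zero => simp
      | add a b ha hb => simp only [tmul_add, map_add, ha, hb]
      | tmul r n => simp [eN, eM]
  constructor
  · intro h a b hab
    obtain ⟨a, rfl⟩ := eN.surjective a
    obtain ⟨b, rfl⟩ := eN.surjective b
    rw [hc, hc] at hab
    rw [h (eM.injective hab)]
  · intro h a b hab
    refine eN.injective (h ?_)
    rw [hc, hc, hab]

/-- The free case on a local algebra of the base. -/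
theorem injective_rTensor_of_free_baseChange {A R N M Q : Type u} [CommRing A] [CommRing R] [IsLocalRing R]
    [Algebra A R] [AddCommGroup N] [Module A N] [AddCommGroup M] [Module A M] [Module.Flat A M] [AddCommGroup Q]
    [Module A Q] [Module R Q] [IsScalarTower A R Q] (u : N →ₗ[A] M) [Module.Free R (R ⊗[A] N)]
    (h : Function.Injective (u.rTensor (R ⧸ IsLocalRing.maximalIdeal R))) : Function.Injective (u.rTensor Q) :=
  (injective_rTensor_baseChange_iff u).1
    (injective_rTensor_of_free_local _ ((injective_rTensor_baseChange_iff u).2 h))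

/-- Injectivity at a field passes to its extensions. -/
theorem injective_rTensor_field_ext {A : Type u} [CommRing A] (K L : Type u) [Field K] [CommRing L] [Algebra A K]
    [Algebra A L] [Algebra K L] [IsScalarTower A K L] {N M : Type u} [AddCommGroup N] [Module A N] [AddCommGroup M]
    [Module A M] (u : N →ₗ[A] M) (h : Function.Injective (u.rTensor K)) : Function.Injective (u.rTensor L) := by
  refine (injective_rTensor_baseChange_iff (R := K) (Q := L) u).1 ?_
  refine Module.Flat.rTensor_preserves_injective_linearMap (M := L) _ ?_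
  rw [LinearMap.baseChange_eq_ltensor]
  exact (LinearMap.lTensor_inj_iff_rTensor_inj _ _).2 h

/-- A prime minimal over the annihilator of a nonzero element of the kernel. -/
theorem exists_prime {A N M Q : Type u} [CommRing A] [AddCommGroup N] [Module A N] [AddCommGroup M] [Module A M]
    [AddCommGroup Q] [Module A Q] (u : N →ₗ[A] M) (z : N ⊗[A] Q) (hz : u.rTensor Q z = 0) (hzne : z ≠ 0) :
    ∃ (p : Ideal A) (_ : p.IsPrime) (z' : N ⊗[A] LocalizedModule p.primeCompl Q),
      u.rTensor (LocalizedModule p.primeCompl Q) z' = 0 ∧ z' ≠ 0 ∧ ∀ a ∈ p, ∃ n : ℕ, a ^ n • z' = 0 := by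
  let I : Ideal A := LinearMap.ker (LinearMap.toSpanSingleton A (N ⊗[A] Q) z)
  have hIt : I ≠ ⊤ := fun ht => hzne (by
    have h1 : (1 : A) ∈ I := ht ▸ Submodule.mem_top
    simpa [I] using h1)
  obtain ⟨m, hm, hIm⟩ := Ideal.exists_le_maximal I hIt
  haveI := hm.isPrime
  obtain ⟨p, hp, -⟩ := Ideal.exists_minimalPrimes_le hIm
  haveI hpp : p.IsPrime := hp.1.1
  let Ap := Localization.AtPrime p
  let Qp := LocalizedModule p.primeCompl Q
  let g : Q →ₗ[A] Qp := LocalizedModule.mkLinearMap p.primeCompl Q
  let z' : N ⊗[A] Qp := g.lTensor N z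
  have hz' : u.rTensor Qp z' = 0 := by
    show u.rTensor Qp (g.lTensor N z) = 0
    rw [← LinearMap.comp_apply, LinearMap.rTensor_comp_lTensor, ← LinearMap.lTensor_comp_rTensor,
      LinearMap.comp_apply, hz, map_zero]
  have hz'ne : z' ≠ 0 := by
    intro h0
    have h1 : AlgebraTensorModule.rTensor A N g (TensorProduct.comm A N Q z) = 0 := by
      show g.rTensor N (TensorProduct.comm A N Q z) = 0
      rw [LinearMap.rTensor_comm]
      exact (congrArg _ h0).trans (map_zero _)
    haveI : IsLocalizedModule p.primeCompl (AlgebraTensorModule.rTensor A N g) := inferInstance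
    obtain ⟨⟨c, hc⟩, hcz⟩ := (IsLocalizedModule.eq_zero_iff p.primeCompl _).1 h1
    replace hcz : c • TensorProduct.comm A N Q z = 0 := hcz
    rw [← map_smul, LinearEquiv.map_eq_zero_iff] at hcz
    exact hc (hp.1.2 (show c ∈ I from hcz))
  have hnil : ∀ a ∈ p, ∃ n : ℕ, a ^ n • z' = 0 := by
    intro a ha
    by_contra hno
    push Not at hno
    have hdis : Disjoint (I : Set A) ((p.primeCompl ⊔ Submonoid.powers a : Submonoid A) : Set A) := by
      rw [Set.disjoint_left]
      intro x hx hxS
      obtain ⟨c, hc, _, ⟨n, rfl⟩, rfl⟩ := Submonoid.mem_sup.1 hxS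
      refine hno n ?_
      have h1 : (c * a ^ n) • z' = 0 := by
        show (c * a ^ n) • g.lTensor N z = 0
        rw [← map_smul, show (c * a ^ n) • z = 0 from hx, map_zero]
      let e : Qp ≃ₗ[A] Qp := LinearEquiv.ofBijective (algebraMap A (Module.End A Qp) c)
        ((Module.End.isUnit_iff _).1 (IsLocalizedModule.map_units g ⟨c, hc⟩))
      have hu : Function.Injective fun w : N ⊗[A] Qp => c • w := by
        have he : ∀ w : N ⊗[A] Qp, e.toLinearMap.lTensor N w = c • w := fun w => by
          induction w with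
          | zero => simp
          | add a b ha hb => rw [map_add, ha, hb, smul_add]
          | tmul m q =>
            show m ⊗ₜ[A] (c • q) = c • m ⊗ₜ[A] q
            rw [tmul_smul]
        intro a b hab
        exact (e.lTensor N).injective ((he a).trans (hab.trans (he b).symm))
      rw [mul_smul] at h1
      exact hu (h1.trans (smul_zero c).symm)
    obtain ⟨q, hq, hIq, hqS⟩ := Ideal.exists_le_prime_disjoint I _ hdis
    have hqp : q ≤ p := fun x hx => by_contra fun hxp =>
      Set.disjoint_left.1 hqS hx (Submonoid.mem_sup_left (show x ∈ p.primeCompl from hxp))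
    have hqa : a ∉ q := fun hx => Set.disjoint_left.1 hqS hx (Submonoid.mem_sup_right (Submonoid.mem_powers a))
    exact hqa (hp.2 ⟨hq, hIq⟩ hqp ha)
  exact ⟨p, hpp, z', hz', hz'ne, hnil⟩

/-- An element killed by finitely many scalars comes from the submodule they kill. -/
theorem exists_descend {A Ap N Qp : Type u} [CommRing A] [CommRing Ap] [Algebra A Ap] [AddCommGroup N] [Module A N]
    [Module.Flat A N] [AddCommGroup Qp] [Module Ap Qp] [Module A Qp] [IsScalarTower A Ap Qp] (z' : N ⊗[A] Qp)
    (G : Finset A) (hz : ∀ a ∈ G, a • z' = 0) :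
    ∃ (K : Submodule Ap Qp), (∀ a ∈ Ideal.span (G : Set A), ∀ q : K, a • q = 0) ∧
      ∃ y, LinearMap.lTensor N (K.subtype.restrictScalars A) y = z' := by
  classical
  let KG : Finset A → Submodule Ap Qp := fun S =>
    { carrier := {q | ∀ a ∈ S, a • q = 0}
      add_mem' := fun {x y} hx hy a ha => by rw [smul_add, hx a ha, hy a ha, add_zero]
      zero_mem' := fun a _ => smul_zero a
      smul_mem' := fun c x hx a ha => by rw [smul_comm, hx a ha, smul_zero] }
  have hKG : ∀ (S : Finset A) (q : Qp), q ∈ KG S ↔ ∀ a ∈ S, a • q = 0 := fun S q => Iff.rfl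
  have hdesc : ∀ S : Finset A, (∀ a ∈ S, a • z' = 0) →
      ∃ y, LinearMap.lTensor N ((KG S).subtype.restrictScalars A) y = z' := by
    intro S
    induction S using Finset.induction with
    | empty =>
      intro _
      have hsurj : Function.Surjective ((KG ∅).subtype.restrictScalars A) :=
        fun q => ⟨⟨q, (hKG ∅ q).2 (by simp)⟩, rfl⟩
      exact LinearMap.lTensor_surjective N hsurj z'
    | insert a S ha ih =>
      intro hS
      obtain ⟨y, hy⟩ := ih fun b hb => hS b (Finset.mem_insert_of_mem hb)
      let inc : KG (insert a S) →ₗ[A] KG S := (Submodule.inclusion fun q hq => (hKG S q).2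
        fun b hb => (hKG _ q).1 hq b (Finset.mem_insert_of_mem hb)).restrictScalars A
      let mul : KG S →ₗ[A] Qp := a • (KG S).subtype.restrictScalars A
      have hex : Function.Exact inc mul := by
        intro q
        constructor
        · intro hq
          refine ⟨⟨q.1, (hKG _ q.1).2 fun b hb => ?_⟩, Subtype.ext rfl⟩
          rcases Finset.mem_insert.1 hb with rfl | hb
          · exact hq
          · exact (hKG S q.1).1 q.2 b hb
        · rintro ⟨w, rfl⟩
          exact (hKG _ w.1).1 w.2 a (Finset.mem_insert_self a S)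
      have h0 : mul.lTensor N y = 0 := by
        rw [LinearMap.lTensor_smul, LinearMap.smul_apply, hy, hS a (Finset.mem_insert_self a S)]
      obtain ⟨w, hw⟩ := (Module.Flat.lTensor_exact (M := N) hex y).1 h0
      refine ⟨w, ?_⟩
      rw [← hy, ← hw, ← LinearMap.comp_apply (f := LinearMap.lTensor N ((KG S).subtype.restrictScalars A)),
        ← LinearMap.lTensor_comp]
      have hinc : ((KG S).subtype.restrictScalars A).comp inc = (KG (insert a S)).subtype.restrictScalars A :=
        LinearMap.ext fun q => rfl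
      rw [hinc]
  obtain ⟨y, hy⟩ := hdesc G hz
  refine ⟨KG G, ?_, y, hy⟩
  have hykill : ∀ a ∈ Ideal.span (G : Set A), ∀ q : KG G, a • q = 0 := by
    intro a ha q
    induction ha using Submodule.span_induction with
    | mem a ha => exact Subtype.ext ((hKG G q.1).1 q.2 a ha)
    | zero => exact zero_smul _ _
    | add a b _ _ ha hb => rw [add_smul, ha, hb, add_zero]
    | smul c a _ ha => rw [smul_eq_mul, mul_smul, ha, smul_zero]
  exact hykill

/-- An element of `T` killing the `T`-torsion in a fibre. -/
theorem exists_fibre_killer {A B : Type u} [CommRing A] [CommRing B] [Algebra A B] [Algebra.FiniteType A B]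
    (T : Submonoid B) (N₀ : Type u) [AddCommGroup N₀] [Module B N₀] [Module A N₀] [IsScalarTower A B N₀]
    [Module.Finite B N₀] (K : Type u) [Field K] [Algebra A K] :
    ∃ t ∈ T, ∀ v : N₀ ⊗[A] K, (∃ s ∈ T, s • v = 0) → t • v = 0 := by
  let C := B ⊗[A] K
  haveI : IsNoetherianRing (K ⊗[A] B) := Algebra.FiniteType.isNoetherianRing K _
  haveI : IsNoetherianRing C := isNoetherianRing_of_ringEquiv (K ⊗[A] B) (Algebra.TensorProduct.comm A K B).toRingEquiv
  haveI : IsNoetherian C (C ⊗[B] N₀) := isNoetherian_of_isNoetherianRing_of_finite C _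
  obtain ⟨t, ht, hkill⟩ := exists_torsion_killer (B := B) (C := C) (V := C ⊗[B] N₀) T
  let eV : N₀ ⊗[A] K ≃ₗ[B] C ⊗[B] N₀ :=
    (AlgebraTensorModule.cancelBaseChange A B B N₀ K).symm ≪≫ₗ TensorProduct.comm B N₀ C
  refine ⟨t, ht, fun v ⟨s, hs, hsv⟩ => eV.injective ?_⟩
  rw [map_smul, map_zero, hkill (eV v) ⟨s, hs, by rw [← map_smul, hsv, map_zero]⟩]

/-- An element of `T` away from which the model is flat. -/
theorem exists_flat_element {A B : Type u} [CommRing A] [CommRing B] [Algebra A B] [Algebra.FinitePresentation A B]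
    (T : Submonoid B) {N₀ N : Type u} [AddCommGroup N₀] [Module B N₀] [Module A N₀] [IsScalarTower A B N₀]
    [Module.FinitePresentation B N₀] [AddCommGroup N] [Module B N] [Module A N] [IsScalarTower A B N]
    [Module.Flat A N] (ι : N₀ →ₗ[B] N) [IsLocalizedModule T ι] :
    ∃ s ∈ T, ∀ (P : Ideal B) [P.IsPrime], s ∉ P → FlatCA.FlatAt A P N₀ := by
  have hflatT : FlatOn A (P := B) T N₀ := (flatOn_iff_flat T ι).mpr inferInstance
  obtain ⟨S, hS⟩ := (PrimeSpectrum.isClosed_iff_zeroLocus _).mp (isOpen_flatLocus_fp A (S := B) N₀).isClosed_compl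
  by_contra hno
  have hdis : Disjoint ((Ideal.span S : Ideal B) : Set B) (T : Set B) := by
    rw [Set.disjoint_left]
    intro x hx hxT
    refine hno ⟨x, hxT, fun P hP hxP => ?_⟩
    by_contra hnf
    have hmem : (⟨P, hP⟩ : PrimeSpectrum B) ∈ PrimeSpectrum.zeroLocus S := hS ▸ hnf
    exact hxP ((Ideal.span_le.2 hmem) hx)
  obtain ⟨P, hP, hSP, hPT⟩ := Ideal.exists_le_prime_disjoint _ _ hdis
  have hmem : (⟨P, hP⟩ : PrimeSpectrum B) ∈ PrimeSpectrum.zeroLocus S := fun x hx => hSP (Ideal.subset_span hx)
  rw [← hS] at hmem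
  refine hmem ((flatOn_primeCompl_iff P).mp (hflatT.of_le ?_))
  exact fun x hx hxP => Set.disjoint_left.1 hPT hxP hx

/-- The lift to the localisation at `t` is injective on the fibre. -/
theorem exists_lift_injective {A B : Type u} [CommRing A] [CommRing B] [Algebra A B] (T : Submonoid B)
    {N₀ N : Type u} [AddCommGroup N₀] [Module B N₀] [Module A N₀] [IsScalarTower A B N₀] [AddCommGroup N]
    [Module B N] [Module A N] [IsScalarTower A B N] (ι : N₀ →ₗ[B] N) [IsLocalizedModule T ι] (K : Type u)
    [AddCommGroup K] [Module A K] {t : B} (ht : t ∈ T)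
    (hkill : ∀ v : N₀ ⊗[A] K, (∃ s ∈ T, s • v = 0) → t • v = 0) :
    ∃ ι₁ : LocalizedModule (Submonoid.powers t) N₀ →ₗ[B] N,
      (∀ (W : Type u) [AddCommGroup W] [Module A W] (v : N₀ ⊗[A] W), AlgebraTensorModule.rTensor A W ι₁
          (AlgebraTensorModule.rTensor A W (LocalizedModule.mkLinearMap (Submonoid.powers t) N₀) v) =
        AlgebraTensorModule.rTensor A W ι v) ∧ Function.Injective ((ι₁.restrictScalars A).rTensor K) := by
  let mk₁ := LocalizedModule.mkLinearMap (Submonoid.powers t) N₀
  let ι₁ : LocalizedModule (Submonoid.powers t) N₀ →ₗ[B] N :=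
    IsLocalizedModule.lift (Submonoid.powers t) mk₁ ι fun x => by
      obtain ⟨_, k, rfl⟩ := x
      exact IsLocalizedModule.map_units ι ⟨t ^ k, pow_mem ht k⟩
  have hcomp : ∀ (W : Type u) [AddCommGroup W] [Module A W] (v : N₀ ⊗[A] W),
      AlgebraTensorModule.rTensor A W ι₁ (AlgebraTensorModule.rTensor A W mk₁ v) =
        AlgebraTensorModule.rTensor A W ι v := fun W _ _ v => by
    induction v with
    | zero => simp
    | add a b ha hb => simp only [map_add, ha, hb]
    | tmul n w =>
      show ι₁ (mk₁ n) ⊗ₜ[A] w = ι n ⊗ₜ[A] w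
      rw [IsLocalizedModule.lift_apply]
  refine ⟨ι₁, hcomp, (injective_iff_map_eq_zero _).2 fun x hx => ?_⟩
  replace hx : AlgebraTensorModule.rTensor A K ι₁ x = 0 := hx
  obtain ⟨⟨v, ⟨_, k, rfl⟩⟩, hv⟩ :=
    IsLocalizedModule.surj (Submonoid.powers t) (AlgebraTensorModule.rTensor A K mk₁) x
  replace hv : t ^ k • x = AlgebraTensorModule.rTensor A K mk₁ v := hv
  have h1 : AlgebraTensorModule.rTensor A K ι v = 0 := by
    rw [← hcomp, ← hv, map_smul, hx, smul_zero]
  obtain ⟨⟨s, hs⟩, hsv⟩ := (IsLocalizedModule.eq_zero_iff T _).1 h1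
  have h2 : t ^ (k + 1) • x = 0 := by
    rw [pow_succ', mul_smul, hv, ← map_smul, hkill v ⟨s, hs, hsv⟩, map_zero]
  refine ((Module.End.isUnit_iff _).1 (IsLocalizedModule.map_units (AlgebraTensorModule.rTensor A K mk₁)
    (⟨t ^ (k + 1), pow_mem (Submonoid.mem_powers t) _⟩ : Submonoid.powers t))).injective ?_
  rw [map_zero]
  exact h2

/-- Over the free stratum through `p`. -/
theorem injective_killed {A N₁ M : Type u} [CommRing A] [AddCommGroup N₁] [Module A N₁] [AddCommGroup M] [Module A M]
    [Module.Flat A M] (u : N₁ →ₗ[A] M) (p : Ideal A) [p.IsPrime] (h : Function.Injective (u.rTensor p.ResidueField))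
    {J : Ideal A} (hJ : J ≤ p) {f : A} (hf : f ∉ p) (hfree : FreeOn N₁ J f)
    (W : Type u) [AddCommGroup W] [Module (Localization.AtPrime p) W] [Module A W]
    [IsScalarTower A (Localization.AtPrime p) W] (hW : ∀ a ∈ J, ∀ q : W, a • q = 0) :
    Function.Injective (u.rTensor W) := by
  let Ap := Localization.AtPrime p
  let J' : Ideal Ap := J.map (algebraMap A Ap)
  haveI : Nontrivial (Ap ⧸ J') := Ideal.Quotient.nontrivial_iff.2 (ne_top_of_le_ne_top
    (IsLocalRing.maximalIdeal.isMaximal Ap).ne_top
    (Ideal.map_le_iff_le_comap.2 fun a ha => (IsLocalization.AtPrime.to_map_mem_maximal_iff Ap p a).2 (hJ ha)))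
  haveI : IsLocalRing (Ap ⧸ J') := IsLocalRing.of_surjective' (Ideal.Quotient.mk J') Ideal.Quotient.mk_surjective
  haveI : Module.Free (Ap ⧸ J') ((Ap ⧸ J') ⊗[A] N₁) := hfree (Ap ⧸ J')
    (by
      rw [IsScalarTower.algebraMap_apply A Ap (Ap ⧸ J')]
      exact (IsLocalization.map_units Ap (⟨f, hf⟩ : p.primeCompl)).map _)
    (le_bot_iff.mp (Ideal.map_le_iff_le_comap.mpr fun a ha => Ideal.mem_comap.2 (Ideal.mem_bot.2
      (Ideal.Quotient.eq_zero_iff_mem.2 (Ideal.mem_map_of_mem (algebraMap A Ap) ha)))))
  haveI : IsLocalHom (Ideal.Quotient.mk J') := IsLocalHom.of_surjective _ Ideal.Quotient.mk_surjective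
  letI : Algebra p.ResidueField (IsLocalRing.ResidueField (Ap ⧸ J')) :=
    (IsLocalRing.ResidueField.map (Ideal.Quotient.mk J')).toAlgebra
  haveI : IsScalarTower A p.ResidueField (IsLocalRing.ResidueField (Ap ⧸ J')) :=
    IsScalarTower.of_algebraMap_eq fun a => rfl
  have htors : Module.IsTorsionBySet Ap W (J' : Set Ap) := by
    rintro q ⟨x, hx⟩
    show x • q = 0
    induction hx using Submodule.span_induction with
    | mem x hx => obtain ⟨a, ha, rfl⟩ := hx; rw [algebraMap_smul]; exact hW a ha q
    | zero => exact zero_smul _ _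
    | add a b _ _ ha hb => rw [add_smul, ha, hb, add_zero]
    | smul c a _ ha => rw [smul_eq_mul, mul_smul, ha, smul_zero]
  letI : Module (Ap ⧸ J') W := htors.module
  haveI : IsScalarTower A (Ap ⧸ J') W := htors.isScalarTower
  exact injective_rTensor_of_free_baseChange (R := Ap ⧸ J') u
    (injective_rTensor_field_ext p.ResidueField (IsLocalRing.ResidueField (Ap ⧸ J')) u h)

/-- At a prime, injectivity for modules killed by a suitable finitely generated ideal inside it. -/
theorem exists_ideal {A B : Type u} [CommRing A] [CommRing B] [Algebra A B] [Algebra.FinitePresentation A B]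
    (T : Submonoid B) {BT : Type u} [CommRing BT] [Algebra B BT] [IsLocalization T BT] [Algebra A BT]
    [IsScalarTower A B BT] (N : Type u) [AddCommGroup N] [Module BT N] [Module A N] [IsScalarTower A BT N]
    [Module.FinitePresentation BT N] [Module.Flat A N] (M : Type u) [AddCommGroup M] [Module A M] [Module.Flat A M]
    (u : N →ₗ[A] M) (p : Ideal A) [p.IsPrime] (h : Function.Injective (u.rTensor p.ResidueField)) :
    ∃ J : Ideal A, J.FG ∧ J ≤ p ∧ ∀ (W : Type u) [AddCommGroup W] [Module (Localization.AtPrime p) W] [Module A W]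
      [IsScalarTower A (Localization.AtPrime p) W],
      (∀ a ∈ J, ∀ q : W, a • q = 0) → Function.Injective (u.rTensor W) := by
  classical
  have hpp : p.IsPrime := inferInstance
  let Ap := Localization.AtPrime p
  letI : Module B N := Module.compHom N (algebraMap B BT)
  haveI : IsScalarTower B BT N := IsScalarTower.of_algebraMap_smul fun _ _ => rfl
  haveI : IsScalarTower A B N := IsScalarTower.of_algebraMap_smul fun a n => by
    show algebraMap B BT (algebraMap A B a) • n = a • n
    rw [← IsScalarTower.algebraMap_apply A B BT, algebraMap_smul]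
  obtain ⟨N₀, _, _, _, ι, hι⟩ := exists_module_model T (C' := BT) N
  letI : Module A N₀ := Module.compHom N₀ (algebraMap A B)
  haveI : IsScalarTower A B N₀ := IsScalarTower.of_algebraMap_smul fun _ _ => rfl
  obtain ⟨t', ht', hkill⟩ := exists_fibre_killer (A := A) T N₀ p.ResidueField
  obtain ⟨s₀, hs₀, hs₀flat⟩ := exists_flat_element (A := A) T ι
  let t := s₀ * t'
  have htT : t ∈ T := mul_mem hs₀ ht'
  obtain ⟨ι₁, hcomp, hι₁inj⟩ := exists_lift_injective (A := A) T ι p.ResidueField htT (fun v hv => by
    rw [mul_smul, hkill v hv, smul_zero])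
  let Bt := Localization.Away t
  let N₁ := LocalizedModule (Submonoid.powers t) N₀
  let mk₁ := LocalizedModule.mkLinearMap (Submonoid.powers t) N₀
  haveI : Module.Flat A N₁ := (flatOn_iff_flat (Submonoid.powers t) mk₁).mp
    (flatOn_powers_of_flatAt t fun P _ htP => hs₀flat P fun hs => htP (P.mul_mem_right t' hs))
  haveI : Module.FinitePresentation Bt N₁ := FinitePresentation.of_isBaseChange mk₁
    (IsLocalizedModule.isBaseChange (Submonoid.powers t) Bt mk₁)
  haveI : Algebra.FinitePresentation B Bt := IsLocalization.Away.finitePresentation t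
  haveI : Algebra.FinitePresentation A Bt := Algebra.FinitePresentation.trans A B Bt
  -- the stratum
  obtain ⟨l, hl, hfree⟩ := exists_free_stratification (A := A) (B := Bt) N₁
  obtain ⟨i, hi, hip, hJp⟩ : ∃ (i : ℕ) (hi : i < l.length), l[i] ∉ p ∧ ∀ a ∈ l.take i, a ∈ p := by
    have hex : ∃ i : ℕ, ∃ hi : i < l.length, l[i] ∉ p := by
      by_contra hno
      push Not at hno
      refine hpp.ne_top (eq_top_iff.2 (hl ▸ Ideal.span_le.2 fun a (ha : a ∈ l) => ?_))
      obtain ⟨i, hi, rfl⟩ := List.getElem_of_mem ha
      exact hno i hi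
    obtain ⟨hi, hip⟩ := Nat.find_spec hex
    refine ⟨Nat.find hex, hi, hip, fun a ha => ?_⟩
    obtain ⟨j, hj, rfl⟩ := List.getElem_of_mem ha
    rw [List.length_take, lt_min_iff] at hj
    rw [List.getElem_take]
    by_contra hn
    exact Nat.find_min hex hj.1 ⟨hj.2, hn⟩
  let J : Ideal A := Ideal.span {a | a ∈ l.take i}
  have hJle : J ≤ p := Ideal.span_le.2 hJp
  have hJfg : J.FG := ⟨(l.take i).toFinset, by congr 1; ext; simp⟩
  refine ⟨J, hJfg, hJle, fun W _ _ _ _ hW => (injective_iff_map_eq_zero _).2 fun x hx => ?_⟩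
  obtain ⟨⟨v, ⟨s, hs⟩⟩, hv⟩ := IsLocalizedModule.surj T (AlgebraTensorModule.rTensor A W ι) x
  replace hv : s • x = AlgebraTensorModule.rTensor A W ι v := hv
  let c : BT := IsLocalization.mk' BT 1 (⟨s, hs⟩ : T)
  have hcs : c * algebraMap B BT s = 1 := by
    rw [IsLocalization.mk'_spec, map_one]
  have hc : ∀ m : N, c • (s • m) = m := fun m => by
    rw [← algebraMap_smul BT s m, smul_smul, hcs, one_smul]
  have hc' : ∀ m : N, s • (c • m) = m := fun m => by
    rw [← algebraMap_smul BT s (c • m), smul_smul, mul_comm, hcs, one_smul]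
  let E : N ≃ₗ[A] N := LinearEquiv.ofBijective (Algebra.lsmul A A N c)
    ⟨fun a b hab => by rw [← hc' a, ← hc' b, show c • a = c • b from hab], fun m => ⟨s • m, hc m⟩⟩
  let j : N₁ →ₗ[A] N := E.toLinearMap.comp (ι₁.restrictScalars A)
  have hu' : Function.Injective ((u.comp j).rTensor p.ResidueField) := by
    rw [LinearMap.rTensor_comp, LinearMap.rTensor_comp]
    exact h.comp ((E.rTensor p.ResidueField).injective.comp hι₁inj)
  have hW' : Function.Injective ((u.comp j).rTensor W) :=
    injective_killed _ p hu' hJle hip (hfree i hi) W hW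
  set v₁ := AlgebraTensorModule.rTensor A W mk₁ v with hv₁
  have hjv : j.rTensor W v₁ = x := by
    have h1 : (ι₁.restrictScalars A).rTensor W v₁ = s • x := by
      rw [hv, ← hcomp]
      rfl
    rw [LinearMap.rTensor_comp, LinearMap.comp_apply, h1]
    clear hx hv h1 hv₁
    induction x with
    | zero => simp
    | add a b ha hb => simp only [smul_add, map_add, ha, hb]
    | tmul m w =>
      show (c • (s • m)) ⊗ₜ[A] w = m ⊗ₜ[A] w
      rw [hc]
  have h0 : v₁ = 0 := hW' (by rw [map_zero, LinearMap.rTensor_comp, LinearMap.comp_apply, hjv, hx])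
  rw [← hjv, h0, map_zero]

/-- Fibrewise injective maps from flat modules, finitely presented over a localised algebra, into flat modules are
universally injective. -/
theorem injective_rTensor {A B : Type u} [CommRing A] [CommRing B] [Algebra A B] [Algebra.FinitePresentation A B]
    (T : Submonoid B) {BT : Type u} [CommRing BT] [Algebra B BT] [IsLocalization T BT] [Algebra A BT]
    [IsScalarTower A B BT] (N : Type u) [AddCommGroup N] [Module BT N] [Module A N] [IsScalarTower A BT N]
    [Module.FinitePresentation BT N] [Module.Flat A N] (M : Type u) [AddCommGroup M] [Module A M] [Module.Flat A M]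
    (u : N →ₗ[A] M) (h : ∀ (p : Ideal A) [p.IsPrime], Function.Injective (u.rTensor p.ResidueField))
    (Q : Type u) [AddCommGroup Q] [Module A Q] : Function.Injective (u.rTensor Q) := by
  classical
  refine (injective_iff_map_eq_zero _).2 fun z hz => ?_
  by_contra hzne
  obtain ⟨p, hp, z', hz', hz'ne, hnil⟩ := exists_prime u z hz hzne
  obtain ⟨J, hJfg, hJle, hinj⟩ := exists_ideal T (BT := BT) N M u p (h p)
  let I' : Ideal A := LinearMap.ker (LinearMap.toSpanSingleton A (N ⊗[A] LocalizedModule p.primeCompl Q) z')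
  obtain ⟨n, hn⟩ := Ideal.exists_pow_le_of_le_radical_of_fg (I := J) (J := I') (fun a ha => by
    obtain ⟨k, hk⟩ := hnil a (hJle ha)
    exact ⟨k, hk⟩) hJfg
  obtain ⟨G, hG⟩ := Submodule.FG.pow hJfg n
  obtain ⟨K, hK, y, hy⟩ := exists_descend (Ap := Localization.AtPrime p) z' G
    fun a ha => hn (hG ▸ Submodule.subset_span ha)
  have hy0 : y = 0 := injective_rTensor_of_pow (Ap := Localization.AtPrime p) u J hinj n K
    (fun a ha => hK a (by rw [show Ideal.span (G : Set A) = J ^ n from hG]; exact ha)) (by
    refine Module.Flat.lTensor_preserves_injective_linearMap (M := M) (K.subtype.restrictScalars A)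
      K.subtype_injective ?_
    rw [map_zero, map_zero, ← LinearMap.comp_apply, LinearMap.lTensor_comp_rTensor, ← LinearMap.rTensor_comp_lTensor,
      LinearMap.comp_apply, hy, hz'])
  exact hz'ne (by rw [← hy, hy0, map_zero])

end Groth.FlatDescent.UnivInjFib
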